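import Groth.Agent.Lib.SepField.Smooth
import Mathlib.RingTheory.AdicCompletion.RingHom
import Mathlib.RingTheory.Localization.FractionRing
import Mathlib.Algebra.Algebra.Rat

/-!
# Coefficient fields of complete local rings of equal characteristic
-/

universe u v

open IsLocalRing

namespace GrothLib.CoeffField

/-- A formally smooth residue field lifts to a complete local algebra. -/
theorem exists_section (k₀ : Type v) (R : Type u) [CommRing k₀] [CommRing R] [Algebra k₀ R]
    [IsLocalRing R] [IsAdicComplete (maximalIdeal R) R] [Algebra.FormallySmooth k₀ (ResidueField R)] :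
    ∃ s : ResidueField R →ₐ[k₀] R, ∀ x, residue R (s x) = x := by
  set m := maximalIdeal R with hm
  let fac : ∀ n : ℕ, R ⧸ m ^ (n + 2) →ₐ[k₀] R ⧸ m ^ (n + 1) := fun n =>
    Ideal.Quotient.factorₐ k₀ (Ideal.pow_le_pow_right (Nat.le_succ _))
  have hsurj : ∀ n, Function.Surjective (fac n) := fun n =>
    Ideal.Quotient.factor_surjective (Ideal.pow_le_pow_right (Nat.le_succ _))
  have hnil : ∀ n, IsNilpotent (RingHom.ker (fac n : R ⧸ m ^ (n + 2) →+* R ⧸ m ^ (n + 1))) := by
    intro n
    refine ⟨2, le_bot_iff.1 ?_⟩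
    have hk : RingHom.ker (fac n : R ⧸ m ^ (n + 2) →+* R ⧸ m ^ (n + 1)) ≤
        (m ^ (n + 1)).map (Ideal.Quotient.mk (m ^ (n + 2))) := by
      intro x hx
      obtain ⟨y, rfl⟩ := Ideal.Quotient.mk_surjective x
      refine Ideal.mem_map_of_mem _ ?_
      rw [RingHom.mem_ker] at hx
      exact Ideal.Quotient.eq_zero_iff_mem.1 hx
    refine (Ideal.pow_right_mono hk 2).trans ?_
    rw [← Ideal.map_pow, ← pow_mul, ← Ideal.map_quotient_self (m ^ (n + 2))]
    exact Ideal.map_mono (Ideal.pow_le_pow_right (by omega))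
  let g0 : ResidueField R →ₐ[k₀] R ⧸ m ^ (0 + 1) :=
    Ideal.Quotient.factorₐ k₀ (le_of_eq (by simp [hm]) : m ≤ m ^ (0 + 1))
  let g : ∀ n : ℕ, ResidueField R →ₐ[k₀] R ⧸ m ^ (n + 1) := fun n => Nat.rec g0
    (fun n gn => Algebra.FormallySmooth.liftOfSurjective gn (fac n) (hsurj n) (hnil n)) n
  have hg : ∀ n, (fac n).comp (g (n + 1)) = g n := fun n =>
    Algebra.FormallySmooth.comp_liftOfSurjective _ _ _ _
  have ha : StrictMono fun n : ℕ => n + 1 := fun a b h => Nat.add_lt_add_right h 1
  let s := IsAdicComplete.StrictMono.liftRingHom m ha (fun n => (g n).toRingHom)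
    (fun {n} => RingHom.ext fun x => AlgHom.congr_fun (hg n) x)
  have hs : ∀ n x, Ideal.Quotient.mk (m ^ (n + 1)) (s x) = g n x := fun n x =>
    IsAdicComplete.StrictMono.mk_liftRingHom m ha _ _ x
  refine ⟨⟨s, fun c => ?_⟩, fun x => ?_⟩
  · refine eq_of_sub_eq_zero (IsHausdorff.haus (I := m) inferInstance _ fun n => ?_)
    rw [SModEq.sub_mem, sub_zero, smul_eq_mul, Ideal.mul_top]
    refine Ideal.pow_le_pow_right (Nat.le_succ n) ?_
    rw [← Ideal.Quotient.eq]
    exact (hs n _).trans ((g n).commutes c)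
  · obtain ⟨r, rfl⟩ := residue_surjective x
    refine Ideal.Quotient.eq.2 ?_
    have h0 := hs 0 (residue R r)
    have h1 : g 0 (residue R r) = Ideal.Quotient.mk (m ^ (0 + 1)) r := rfl
    rw [h1, Ideal.Quotient.eq] at h0
    exact Ideal.pow_le_self (by omega) h0

/-- A complete local ring containing a field has a coefficient field. -/
theorem exists_coefficientField (k₀ R : Type u) [Field k₀] [CommRing R] [Algebra k₀ R]
    [IsLocalRing R] [IsAdicComplete (maximalIdeal R) R] :
    ∃ s : ResidueField R →+* R, (residue R).comp s = RingHom.id _ := by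
  obtain h0 | ⟨p, hp, hpk⟩ := CharP.exists' k₀
  · let _ : Algebra (ULift.{u} ℚ) R := ((algebraMap k₀ R).comp
      ((algebraMap ℚ k₀).comp ULift.ringEquiv.toRingHom)).toAlgebra
    have : CharZero (ULift.{u} ℚ) :=
      charZero_of_injective_ringHom
        (f := (ULift.ringEquiv.symm : ℚ ≃+* ULift.{u} ℚ).toRingHom) ULift.ringEquiv.symm.injective
    have : Algebra.FormallySmooth (ULift.{u} ℚ) (ResidueField R) :=
      GrothLib.SepField.formallySmooth_of_charZero
    obtain ⟨s, hs⟩ := exists_section (ULift.{u} ℚ) R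
    exact ⟨s.toRingHom, RingHom.ext hs⟩
  · haveI : CharP (GrothLib.SepField.PrimeFld.{u} p) p := charP_of_injective_ringHom
      (f := (ULift.ringEquiv.symm : ZMod p ≃+* GrothLib.SepField.PrimeFld.{u} p).toRingHom)
      ULift.ringEquiv.symm.injective p
    haveI : PerfectRing (GrothLib.SepField.PrimeFld.{u} p) p := PerfectRing.ofFiniteOfIsReduced p _
    let _ : Algebra (GrothLib.SepField.PrimeFld.{u} p) R := ((algebraMap k₀ R).comp
      ((ZMod.castHom (dvd_refl p) k₀).comp ULift.ringEquiv.toRingHom)).toAlgebra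
    have : CharP (ResidueField R) p := charP_of_injective_algebraMap
      (algebraMap (GrothLib.SepField.PrimeFld.{u} p) (ResidueField R)).injective p
    have : Algebra.FormallySmooth (GrothLib.SepField.PrimeFld.{u} p) (ResidueField R) :=
      GrothLib.SepField.formallySmooth_perfect p
    obtain ⟨s, hs⟩ := exists_section (GrothLib.SepField.PrimeFld.{u} p) R
    exact ⟨s.toRingHom, RingHom.ext hs⟩

/-- A local ring of residue characteristic zero contains `ℚ`. -/
theorem nonempty_algebra_rat (R : Type u) [CommRing R] [IsLocalRing R] [CharZero (ResidueField R)] :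
    Nonempty (Algebra (ULift.{u} ℚ) R) := by
  have hu : ∀ y : nonZeroDivisors ℤ, IsUnit (Int.castRingHom R y) := fun y => by
    rw [← residue_ne_zero_iff_isUnit, eq_intCast, map_intCast]
    exact Int.cast_ne_zero.2 (nonZeroDivisors.coe_ne_zero y)
  exact ⟨((IsLocalization.lift (S := ℚ) hu).comp ULift.ringEquiv.toRingHom).toAlgebra⟩

end GrothLib.CoeffField
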